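import Mathlib

/-!
# Two-transitive groups with an involution whose centraliser has constant fixity

Counting the transpositions in the cycle decompositions of the conjugates of the involution shows
that every element interchanging two points is such a conjugate, and that the number of points is
the order of the centraliser plus the number of fixed points.
-/

set_option autoImplicit false
set_option linter.style.haveILetI false
set_option linter.unusedSectionVars false

namespace CfsgLib.ConstFixity

open MulAction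

/-- A doubly transitive action with an involution `t` fixing `i` points, such that every
non-identity element of its centraliser fixes exactly `i` points. -/
structure Data (G Ω : Type*) [Group G] [MulAction G Ω] (i : ℕ) (t : G) : Prop where
  faith : FaithfulSMul G Ω
  two : IsMultiplyPretransitive G Ω 2
  ord : orderOf t = 2
  fix : ∀ g : G, Commute g t → g ≠ 1 → Nat.card {x : Ω // g • x = x} = i

/-- The stabiliser of two points. -/
abbrev pairStab (G : Type*) {Ω : Type*} [Group G] [MulAction G Ω] (a b : Ω) : Subgroup G :=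
  stabilizer G a ⊓ stabilizer G b

variable {G Ω : Type*} [Group G] [MulAction G Ω] {i : ℕ} {t : G}

theorem pair_exists (D : Data G Ω i t) {a b c d : Ω} (hab : a ≠ b) (hcd : c ≠ d) :
    ∃ g : G, g • a = c ∧ g • b = d :=
  is_two_pretransitive_iff.1 D.two hab hcd

theorem eq_one_of_fix_all (D : Data G Ω i t) {g : G} (h : ∀ x : Ω, g • x = x) : g = 1 := by
  haveI := D.faith
  exact eq_of_smul_eq_smul fun x : Ω => by rw [h x, one_smul]

theorem t_ne_one (D : Data G Ω i t) : t ≠ 1 := fun h => by
  have := D.ord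
  rw [h, orderOf_one] at this
  omega

theorem exists_moved (D : Data G Ω i t) : ∃ x : Ω, t • x ≠ x := by
  by_contra h
  push Not at h
  exact t_ne_one D (eq_one_of_fix_all D h)

theorem card_smul_fix (g h : G) :
    Nat.card {x : Ω // (g * h * g⁻¹) • x = x} = Nat.card {x : Ω // h • x = x} := by
  refine Nat.card_congr ((MulAction.toPerm g⁻¹).subtypeEquiv fun x => ?_)
  simp only [MulAction.toPerm_apply, mul_smul]
  exact eq_inv_smul_iff.symm.trans ⟨fun h => h.trans rfl, fun h => h⟩

/-- The conjugates of `t`, counted. -/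
theorem card_class [Finite G] (t : G) :
    Nat.card {s : G // IsConj t s} * Nat.card (Subgroup.centralizer {t}) = Nat.card G := by
  classical
  let f : G ⧸ Subgroup.centralizer {t} → {s : G // IsConj t s} :=
    Quotient.lift (fun g => ⟨g * t * g⁻¹, isConj_iff.2 ⟨g, rfl⟩⟩) (fun g h hgh => by
      have e : (g⁻¹ * h) * t = t * (g⁻¹ * h) :=
        Subgroup.mem_centralizer_singleton_iff.1 (QuotientGroup.leftRel_apply.1 hgh)
      refine Subtype.ext ?_
      show g * t * g⁻¹ = h * t * h⁻¹
      calc g * t * g⁻¹ = g * (t * (g⁻¹ * h)) * h⁻¹ := by group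
        _ = g * ((g⁻¹ * h) * t) * h⁻¹ := by rw [e]
        _ = h * t * h⁻¹ := by group)
  have hf : Function.Bijective f := by
    refine ⟨?_, fun s => ?_⟩
    · intro x y
      induction x using QuotientGroup.induction_on with | _ g =>
      induction y using QuotientGroup.induction_on with | _ h =>
      intro e
      refine QuotientGroup.eq.2 ?_
      have e' : g * t * g⁻¹ = h * t * h⁻¹ := congrArg Subtype.val e
      refine Subgroup.mem_centralizer_singleton_iff.2 ?_
      calc (g⁻¹ * h) * t = g⁻¹ * (h * t * h⁻¹) * h := by group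
        _ = g⁻¹ * (g * t * g⁻¹) * h := by rw [e']
        _ = t * (g⁻¹ * h) := by group
    · obtain ⟨g, hg⟩ := isConj_iff.1 s.2
      exact ⟨(g : G ⧸ Subgroup.centralizer {t}), Subtype.ext hg⟩
  rw [← Nat.card_eq_of_bijective f hf]
  exact (Subgroup.card_eq_card_quotient_mul_card_subgroup _).symm

variable [Finite G] [Finite Ω]

theorem card_pairs : Nat.card {p : Ω × Ω // p.1 ≠ p.2} = Nat.card Ω * (Nat.card Ω - 1) := by
  classical
  haveI := Fintype.ofFinite Ω
  have h := Finset.offDiag_card (Finset.univ : Finset Ω)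
  rw [Nat.card_eq_fintype_card, Nat.card_eq_fintype_card, Fintype.card_subtype, Nat.mul_sub,
    mul_one]
  rw [Finset.card_univ] at h
  rw [← h]
  congr 1
  ext ⟨x, y⟩
  simp

theorem card_group (D : Data G Ω i t) {a b : Ω} (hab : a ≠ b) :
    Nat.card G = Nat.card Ω * (Nat.card Ω - 1) * Nat.card (pairStab G a b) := by
  classical
  haveI := Fintype.ofFinite G
  let q : Ω × Ω := (a, b)
  have horb : orbit G q = {p : Ω × Ω | p.1 ≠ p.2} := by
    ext ⟨c, d⟩
    constructor
    · rintro ⟨g, hg⟩
      simp only [q, Prod.smul_mk, Prod.mk.injEq] at hg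
      intro hcd
      exact hab (smul_left_cancel g (hg.1.trans (Eq.trans hcd hg.2.symm)))
    · intro h
      obtain ⟨g, h1, h2⟩ := pair_exists D hab h
      exact ⟨g, by simp [q, h1, h2]⟩
  have hstab : stabilizer G q = pairStab G a b := by
    ext g
    simp [q, Prod.smul_mk, mem_stabilizer_iff, Subgroup.mem_inf]
  haveI : Fintype (orbit G q) := Fintype.ofFinite _
  have h := card_orbit_mul_card_stabilizer_eq_card_group G q
  rw [← Nat.card_eq_fintype_card, ← Nat.card_eq_fintype_card, ← Nat.card_eq_fintype_card, hstab]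
    at h
  rw [← h, horb]
  exact congrArg (· * _) card_pairs

theorem card_pairStab_congr (D : Data G Ω i t) {a b c d : Ω} (hab : a ≠ b) (hcd : c ≠ d) :
    Nat.card (pairStab G a b) = Nat.card (pairStab G c d) := by
  have h := (card_group D hab).symm.trans (card_group D hcd)
  haveI : Nontrivial Ω := ⟨⟨a, b, hab⟩⟩
  have h2 : 2 ≤ Nat.card Ω := Finite.one_lt_card
  exact Nat.eq_of_mul_eq_mul_left (Nat.mul_pos (by omega) (by omega)) h

omit [Finite Ω] in
/-- The centraliser order divides the number of moved points. -/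
theorem centralizer_le [Finite Ω] (D : Data G Ω i t) :
    Nat.card (Subgroup.centralizer {t}) + Nat.card {x : Ω // t • x = x} ≤ Nat.card Ω := by
  classical
  haveI := Fintype.ofFinite G
  haveI := Fintype.ofFinite Ω
  set C := Subgroup.centralizer {t}
  have hti : Nat.card {x : Ω // t • x = x} = i := D.fix t (Commute.refl t) (t_ne_one D)
  haveI : Fintype (Quotient (orbitRel C Ω)) := Fintype.ofFinite _
  have h := sum_card_fixedBy_eq_card_orbits_mul_card_group C Ω
  rw [← Finset.add_sum_erase _ _ (Finset.mem_univ (1 : C))] at h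
  have h1 : Fintype.card (fixedBy Ω (1 : C)) = Fintype.card Ω :=
    Fintype.card_congr (Equiv.subtypeUnivEquiv fun x => one_smul C x)
  have h2 : ∀ g ∈ (Finset.univ : Finset C).erase 1, Fintype.card (fixedBy Ω g) = i := fun g hg => by
    have hg1 : (g : G) ≠ 1 := fun e => (Finset.mem_erase.1 hg).1 (Subtype.ext e)
    rw [← D.fix g (Subgroup.mem_centralizer_singleton_iff.1 g.2) hg1, Nat.card_eq_fintype_card]
    exact Fintype.card_congr (Equiv.refl _)
  rw [h1, Finset.sum_congr rfl h2, Finset.sum_const, Finset.card_erase_of_mem (Finset.mem_univ _),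
    Finset.card_univ, smul_eq_mul] at h
  have hlt : i < Nat.card Ω := by
    obtain ⟨x, hx⟩ := exists_moved D
    rw [← hti]
    exact Finite.card_subtype_lt hx
  rw [hti, Nat.card_eq_fintype_card, Nat.card_eq_fintype_card]
  rw [Nat.card_eq_fintype_card] at hlt
  have hc : 1 ≤ Fintype.card C := Fintype.card_pos
  set n := Fintype.card Ω
  set c := Fintype.card C
  set o := Fintype.card (Quotient (orbitRel C Ω))
  have hsplit : (c - 1) * i + i = c * i := by
    rw [Nat.sub_mul, one_mul, Nat.sub_add_cancel (Nat.le_mul_of_pos_left i hc)]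
  have ho : i + 1 ≤ o := by
    by_contra hlt'
    have : o * c ≤ i * c := Nat.mul_le_mul_right c (by omega)
    rw [mul_comm i c] at this
    omega
  have : (i + 1) * c ≤ o * c := Nat.mul_le_mul_right c ho
  rw [add_mul, one_mul, mul_comm i c] at this
  omega

/-- Elements interchanging two points are conjugates of `t`, and `n = |C(t)| + i`. -/
theorem swap_and_card (D : Data G Ω i t) :
    (∀ (g : G) (a : Ω), g • a ≠ a → g • (g • a) = a → IsConj t g) ∧
      Nat.card Ω = Nat.card (Subgroup.centralizer {t}) + i := by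
  classical
  have hti : Nat.card {x : Ω // t • x = x} = i := D.fix t (Commute.refl t) (t_ne_one D)
  obtain ⟨a₀, hb₀⟩ := exists_moved D
  set k := Nat.card (pairStab G a₀ (t • a₀)) with hk
  set S := {q : G × Ω // IsConj t q.1 ∧ q.1 • q.2 ≠ q.2}
  set T := {q : G × Ω // q.1 • q.2 ≠ q.2 ∧ q.1 • (q.1 • q.2) = q.2}
  -- the smaller set
  have hS : Nat.card S = Nat.card {s : G // IsConj t s} * (Nat.card Ω - i) := by
    have e : S ≃ Σ s : {s : G // IsConj t s}, {x : Ω // (s : G) • x ≠ x} :=
      { toFun := fun q => ⟨⟨q.1.1, q.2.1⟩, ⟨q.1.2, q.2.2⟩⟩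
        invFun := fun q => ⟨(q.1.1, q.2.1), ⟨q.1.2, q.2.2⟩⟩
        left_inv := fun q => rfl
        right_inv := fun q => rfl }
    haveI := Fintype.ofFinite Ω
    haveI := Fintype.ofFinite {s : G // IsConj t s}
    rw [Nat.card_congr e, Nat.card_sigma,
      Finset.sum_congr rfl (fun s _ => ?_), Finset.sum_const, Finset.card_univ, smul_eq_mul,
      Nat.card_eq_fintype_card]
    obtain ⟨g, hg⟩ := isConj_iff.1 s.2
    have h1 : Nat.card {x : Ω // (s : G) • x = x} = i := by rw [← hg, card_smul_fix, hti]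
    rw [← h1, Nat.card_eq_fintype_card, Nat.card_eq_fintype_card, Nat.card_eq_fintype_card,
      Fintype.card_subtype_compl]
  -- the larger set
  have hT : Nat.card T ≤ Nat.card Ω * (Nat.card Ω - 1) * k := by
    choose σ hσ1 hσ2 using fun p : {p : Ω × Ω // p.1 ≠ p.2} =>
      pair_exists D (Ne.symm hb₀) p.2
    choose τ hτ1 hτ2 using fun p : {p : Ω × Ω // p.1 ≠ p.2} =>
      pair_exists D (Ne.symm hb₀) (Ne.symm p.2)
    let pr : T → {p : Ω × Ω // p.1 ≠ p.2} := fun q => ⟨(q.1.2, q.1.1 • q.1.2), Ne.symm q.2.1⟩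
    have hmem : ∀ q : T, (τ (pr q))⁻¹ * q.1.1 * σ (pr q) ∈ pairStab G a₀ (t • a₀) := fun q => by
      refine Subgroup.mem_inf.2 ⟨mem_stabilizer_iff.2 ?_, mem_stabilizer_iff.2 ?_⟩
      · rw [mul_smul, mul_smul, hσ1, inv_smul_eq_iff, hτ1]
      · rw [mul_smul, mul_smul, hσ2, inv_smul_eq_iff, hτ2]
        exact q.2.2
    let f : T → {p : Ω × Ω // p.1 ≠ p.2} × pairStab G a₀ (t • a₀) := fun q =>
      (pr q, ⟨_, hmem q⟩)
    have hf : Function.Injective f := fun q r e => by
      have e1 : pr q = pr r := congrArg Prod.fst e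
      have e2 : (τ (pr q))⁻¹ * q.1.1 * σ (pr q) = (τ (pr r))⁻¹ * r.1.1 * σ (pr r) :=
        congrArg Subtype.val (congrArg Prod.snd e)
      rw [e1] at e2
      refine Subtype.ext (Prod.ext (mul_left_cancel (mul_right_cancel e2)) ?_)
      exact congrArg (fun p : {p : Ω × Ω // p.1 ≠ p.2} => p.1.1) e1
    have := Nat.card_le_card_of_injective f hf
    rwa [Nat.card_prod, card_pairs] at this
  have hsq : ∀ s, IsConj t s → s * s = 1 := fun s hs => by
    obtain ⟨g, rfl⟩ := isConj_iff.1 hs
    have htt : t * t = 1 := by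
      have := pow_orderOf_eq_one t
      rwa [D.ord, pow_two] at this
    rw [show g * t * g⁻¹ * (g * t * g⁻¹) = g * (t * t) * g⁻¹ by group, htt, mul_one,
      mul_inv_cancel]
  let ι : S → T := fun q => ⟨q.1, q.2.2, by rw [← mul_smul, hsq _ q.2.1, one_smul]⟩
  have hι : Function.Injective ι := fun q r e => Subtype.ext (congrArg Subtype.val e :)
  have hle : Nat.card (Subgroup.centralizer {t}) + i ≤ Nat.card Ω := hti ▸ centralizer_le D
  have hG : Nat.card {s : G // IsConj t s} * Nat.card (Subgroup.centralizer {t}) =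
      Nat.card Ω * (Nat.card Ω - 1) * k := by rw [card_class, card_group D (Ne.symm hb₀)]
  have h1 : Nat.card {s : G // IsConj t s} * Nat.card (Subgroup.centralizer {t}) ≤
      Nat.card {s : G // IsConj t s} * (Nat.card Ω - i) :=
    Nat.mul_le_mul_left _ (by omega)
  have hST := Nat.card_le_card_of_injective ι hι
  refine ⟨fun g a hga hgga => ?_, ?_⟩
  · have hb : Function.Bijective ι :=
      (Nat.bijective_iff_injective_and_card ι).2 ⟨hι, by omega⟩
    obtain ⟨q, hq⟩ := hb.2 ⟨(g, a), hga, hgga⟩
    have : q.1 = (g, a) := congrArg Subtype.val hq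
    have h := q.2.1
    rwa [this] at h
  · haveI : Nonempty {s : G // IsConj t s} := ⟨⟨t, IsConj.refl t⟩⟩
    have hpos : 0 < Nat.card {s : G // IsConj t s} := Nat.card_pos
    have h2 : Nat.card {s : G // IsConj t s} * (Nat.card Ω - i) ≤
        Nat.card {s : G // IsConj t s} * Nat.card (Subgroup.centralizer {t}) := by omega
    have := Nat.le_of_mul_le_mul_left h2 hpos
    omega

/-- An element interchanging two points is a conjugate of `t`. -/
theorem isConj_of_swap (D : Data G Ω i t) {g : G} {a : Ω} (h1 : g • a ≠ a)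
    (h2 : g • (g • a) = a) : IsConj t g :=
  (swap_and_card D).1 g a h1 h2

theorem card_points (D : Data G Ω i t) :
    Nat.card Ω = Nat.card (Subgroup.centralizer {t}) + i :=
  (swap_and_card D).2

/-- All involutions are conjugate to `t`. -/
theorem isConj_of_sq (D : Data G Ω i t) {s : G} (h2 : s * s = 1) (h1 : s ≠ 1) : IsConj t s := by
  obtain ⟨x, hx⟩ : ∃ x : Ω, s • x ≠ x := by
    by_contra h
    push Not at h
    exact h1 (eq_one_of_fix_all D h)
  exact isConj_of_swap D hx (by rw [← mul_smul, h2, one_smul])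

theorem sq_of_isConj (D : Data G Ω i t) {s : G} (hs : IsConj t s) : s * s = 1 := by
  obtain ⟨g, rfl⟩ := isConj_iff.1 hs
  have htt : t * t = 1 := by
    have := pow_orderOf_eq_one t
    rwa [D.ord, pow_two] at this
  rw [show g * t * g⁻¹ * (g * t * g⁻¹) = g * (t * t) * g⁻¹ by group, htt, mul_one, mul_inv_cancel]

omit [Finite G] [Finite Ω] in
theorem ne_one_of_isConj (D : Data G Ω i t) {s : G} (hs : IsConj t s) : s ≠ 1 := by
  rintro rfl
  obtain ⟨c, hc⟩ := isConj_iff.1 hs
  exact t_ne_one D (conj_eq_one_iff.1 hc)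

/-- Every involution is as good as `t`. -/
theorem data_of_sq (D : Data G Ω i t) {s : G} (h2 : s * s = 1) (h1 : s ≠ 1) : Data G Ω i s := by
  obtain ⟨c, rfl⟩ := isConj_iff.1 (isConj_of_sq D h2 h1)
  refine ⟨D.faith, D.two, orderOf_eq_prime (by rwa [pow_two]) h1, fun g hg hg1 => ?_⟩
  have hc : Commute (c⁻¹ * g * c) t := by
    show c⁻¹ * g * c * t = t * (c⁻¹ * g * c)
    calc c⁻¹ * g * c * t = c⁻¹ * (g * (c * t * c⁻¹)) * c := by group
      _ = c⁻¹ * ((c * t * c⁻¹) * g) * c := by rw [hg.eq]
      _ = t * (c⁻¹ * g * c) := by group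
  rw [← D.fix _ hc (fun e => hg1 (by
    calc g = c * (c⁻¹ * g * c) * c⁻¹ := by group
      _ = 1 := by rw [e]; group)), ← card_smul_fix c (c⁻¹ * g * c)]
  rw [show c * (c⁻¹ * g * c) * c⁻¹ = g by group]

theorem swap_sq (D : Data G Ω i t) {g : G} {a b : Ω} (hab : a ≠ b) (h1 : g • a = b)
    (h2 : g • b = a) : g * g = 1 :=
  sq_of_isConj D (isConj_of_swap D (a := a) (by rw [h1]; exact hab.symm) (by rw [h1, h2]))

theorem exists_swap (D : Data G Ω i t) {a b : Ω} (hab : a ≠ b) :
    ∃ w : G, w • a = b ∧ w • b = a ∧ w * w = 1 := by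
  obtain ⟨w, h1, h2⟩ := pair_exists D hab hab.symm
  exact ⟨w, h1, h2, swap_sq D hab h1 h2⟩

/-- An element interchanging two points inverts their stabiliser. -/
theorem swap_inverts (D : Data G Ω i t) {w h : G} {a b : Ω} (hab : a ≠ b) (h1 : w • a = b)
    (h2 : w • b = a) (hh : h ∈ pairStab G a b) : w * h * w = h⁻¹ := by
  have e : (w * h) * (w * h) = 1 := swap_sq D hab (by rw [mul_smul, hh.1, h1])
    (by rw [mul_smul, hh.2, h2])
  exact eq_inv_of_mul_eq_one_left (by rw [← e]; group)

/-- Two-point stabilisers are abelian. -/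
theorem pair_comm (D : Data G Ω i t) {a b : Ω} (hab : a ≠ b) {g h : G}
    (hg : g ∈ pairStab G a b) (hh : h ∈ pairStab G a b) : Commute g h := by
  obtain ⟨w, h1, h2, hw⟩ := exists_swap D hab
  have e := swap_inverts D hab h1 h2 (mul_mem hg hh)
  have e1 : w * (g * h) * w = g⁻¹ * h⁻¹ := by
    calc w * (g * h) * w = w * g * (w * w) * h * w := by rw [hw]; group
      _ = (w * g * w) * (w * h * w) := by group
      _ = g⁻¹ * h⁻¹ := by rw [swap_inverts D hab h1 h2 hg, swap_inverts D hab h1 h2 hh]
  rw [e1, mul_inv_rev] at e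
  have := (show Commute g⁻¹ h⁻¹ from e)
  simpa using this.inv_inv

/-- An element commuting with an involution fixes `i` points. -/
theorem card_fix_of_commute (D : Data G Ω i t) {s g : G} (h2 : s * s = 1) (h1 : s ≠ 1)
    (hg : Commute g s) (hg1 : g ≠ 1) : Nat.card {x : Ω // g • x = x} = i :=
  (data_of_sq D h2 h1).fix g hg hg1

end CfsgLib.ConstFixity
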