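import Cfsg.Agent.ConstFixity.Regular

/-!
# Only the identity fixes three points

If there are two commuting involutions, then an element fixing three points is trivial: for `i = 0`
and `i = 1` the fixed points of such an element would form an orbit of an odd-order group, and for
`i ≥ 3` the centraliser of an involution would be an elementary abelian Sylow subgroup of order
`i ^ 2` with all its involutions fused, which the group order forbids.
-/

set_option autoImplicit false
set_option linter.style.haveILetI false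
set_option linter.unusedSectionVars false

namespace CfsgLib.ConstFixity

open MulAction

variable {G Ω : Type*} [Group G] [MulAction G Ω] {i : ℕ} {t : G} [Finite G] [Finite Ω]

theorem three_le_fix {g : G} {a b c : Ω} (hab : a ≠ b) (hbc : b ≠ c) (hac : a ≠ c)
    (ha : g • a = a) (hb : g • b = b) (hc : g • c = c) :
    3 ≤ Nat.card {x : Ω // g • x = x} := by
  let f : Fin 3 → {x : Ω // g • x = x} := ![⟨a, ha⟩, ⟨b, hb⟩, ⟨c, hc⟩]
  have hf : Function.Injective f := by
    intro p q h
    fin_cases p <;> fin_cases q <;> simp [f, hab, hab.symm, hbc, hbc.symm, hac, hac.symm] at h ⊢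
  simpa using Nat.card_le_card_of_injective f hf

/-- The commuting elements preserve the fixed points. -/
theorem fix_of_commute {g h : G} (hc : Commute g h) {x : Ω} (hx : h • x = x) :
    h • (g • x) = g • x := by
  rw [← mul_smul, ← hc.eq, mul_smul, hx]

theorem fixed_point_class (D : Data G Ω i t) (a : Ω) :
    Nat.card Ω * Nat.card {s : G // IsConj t s ∧ s • a = a} =
      Nat.card {s : G // IsConj t s} * i := by
  classical
  haveI := Fintype.ofFinite Ω
  haveI := Fintype.ofFinite G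
  let e : (Σ x : Ω, {s : G // IsConj t s ∧ s • x = x}) ≃
      Σ s : {s : G // IsConj t s}, {x : Ω // (s : G) • x = x} :=
    { toFun := fun q => ⟨⟨q.2.1, q.2.2.1⟩, ⟨q.1, q.2.2.2⟩⟩
      invFun := fun q => ⟨q.2.1, ⟨q.1.1, q.1.2, q.2.2⟩⟩
      left_inv := fun q => rfl
      right_inv := fun q => rfl }
  have h := Nat.card_congr e
  have hR : ∀ s : {s : G // IsConj t s}, Nat.card {x : Ω // (s : G) • x = x} = i := fun s =>
    card_fix_of_commute D (sq_of_isConj D s.2) (ne_one_of_isConj D s.2) (Commute.refl _)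
      (ne_one_of_isConj D s.2)
  have hL : ∀ x : Ω, Nat.card {s : G // IsConj t s ∧ s • x = x} =
      Nat.card {s : G // IsConj t s ∧ s • a = a} := fun x => by
    haveI : Nontrivial Ω := ⟨⟨_, _, (exists_moved D).choose_spec⟩⟩
    obtain ⟨a', ha'⟩ := exists_ne a
    obtain ⟨x', hx'⟩ := exists_ne x
    obtain ⟨g, hg, -⟩ := pair_exists D ha'.symm hx'.symm
    refine Nat.card_congr ((MulAut.conj g⁻¹).toEquiv.subtypeEquiv fun s => ?_)
    show IsConj t s ∧ s • x = x ↔ IsConj t (g⁻¹ * s * g⁻¹⁻¹) ∧ (g⁻¹ * s * g⁻¹⁻¹) • a = a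
    rw [inv_inv, mul_smul, mul_smul, hg, inv_smul_eq_iff, hg]
    refine and_congr_left fun _ => ⟨fun h => h.trans (isConj_iff.2 ⟨g⁻¹, by group⟩),
      fun h => h.trans (isConj_iff.2 ⟨g, by group⟩)⟩
  rw [Nat.card_sigma, Nat.card_sigma] at h
  simp only [hL, hR, Finset.sum_const, Finset.card_univ, smul_eq_mul] at h
  rwa [← Nat.card_eq_fintype_card, ← Nat.card_eq_fintype_card] at h

theorem card_class_mul (D : Data G Ω i t) {a b : Ω} (hab : a ≠ b) :
    Nat.card {s : G // IsConj t s} * Nat.card (Subgroup.centralizer {t}) =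
      Nat.card Ω * (Nat.card Ω - 1) * Nat.card (pairStab G a b) := by
  rw [card_class, card_group D hab]

/-- The cases `i ≤ 1`. -/
theorem fix_three_small (D : Data G Ω i t) (hi : i ≤ 1) (hp : HasPair G) {x : G} (hx1 : x ≠ 1)
    {a b c : Ω} (hab : a ≠ b) (hbc : b ≠ c) (hac : a ≠ c) (ha : x • a = a) (hb : x • b = b)
    (hc : x • c = c) : False := by
  classical
  haveI := Fintype.ofFinite Ω
  set C := Subgroup.centralizer ({x} : Set G)
  have hno : ∀ u : G, u * u = 1 → u ≠ 1 → ¬ Commute u x := fun u h2 h1 hcom => by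
    have h := card_fix_of_commute D h2 h1 hcom.symm hx1
    have := three_le_fix hab hbc hac ha hb hc
    omega
  have hCodd : ¬ 2 ∣ Nat.card C := fun h2 => by
    haveI : Fact (Nat.Prime 2) := ⟨Nat.prime_two⟩
    obtain ⟨u, hu⟩ := exists_prime_orderOf_dvd_card' 2 h2
    refine hno u ?_ ?_ (Subgroup.mem_centralizer_singleton_iff.1 u.2)
    · have := congrArg Subtype.val (pow_orderOf_eq_one u)
      rw [hu] at this
      simpa [pow_two] using this
    · intro e
      rw [show u = 1 from Subtype.ext e, orderOf_one] at hu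
      omega
  have hinv : ∀ {w : G} {p q : Ω}, p ≠ q → w • p = q → w • q = p → x • p = p → x • q = q →
      w * x * w = x⁻¹ := fun hpq h1 h2 hp hq => swap_inverts D hpq h1 h2 ⟨hp, hq⟩
  have hprod : ∀ {w v : G}, w * w = 1 → v * v = 1 → w * x * w = x⁻¹ → v * x * v = x⁻¹ →
      w * v ∈ C := fun {w v} hw hv hwx hvx => by
    rw [Subgroup.mem_centralizer_singleton_iff]
    have e1 : v * x = x⁻¹ * v := by rw [← hvx, mul_assoc, hv, mul_one]
    have e2 : w * x⁻¹ = x * w := by
      rw [← hwx, ← mul_assoc, ← mul_assoc, hw, one_mul]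
    rw [mul_assoc, e1, ← mul_assoc, e2, mul_assoc]
  have horb : orbit C a = {p : Ω | x • p = p} := by
    ext p
    constructor
    · rintro ⟨h, rfl⟩
      exact fix_of_commute (Subgroup.mem_centralizer_singleton_iff.1 h.2) ha
    · intro hp
      by_cases hpa : p = a
      · exact ⟨1, by rw [hpa]; exact one_smul _ _⟩
      obtain ⟨d, hd, hda, hdp⟩ : ∃ d : Ω, x • d = d ∧ d ≠ a ∧ d ≠ p := by
        by_cases hbp : b = p
        · exact ⟨c, hc, hac.symm, fun e => hbc (hbp.trans e.symm)⟩
        · exact ⟨b, hb, hab.symm, hbp⟩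
      obtain ⟨w, hw1, hw2, hw⟩ := exists_swap D hdp
      obtain ⟨v, hv1, hv2, hv⟩ := exists_swap D hda.symm
      refine ⟨⟨w * v, hprod hw hv (hinv hdp hw1 hw2 hd hp) (hinv hda.symm hv1 hv2 ha hd)⟩, ?_⟩
      show (w * v) • a = p
      rw [mul_smul, hv1, hw1]
  have hodd : ¬ 2 ∣ Fintype.card {p : Ω // x • p = p} := fun h => hCodd <| by
    refine h.trans ?_
    have h1 := Nat.card_congr (orbitEquivQuotientStabilizer C a)
    rw [horb] at h1
    rw [← Nat.card_eq_fintype_card]
    exact h1 ▸ Subgroup.card_quotient_dvd_card _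
  obtain ⟨w, hw1, hw2, hw⟩ := exists_swap D hab
  have hwx := hinv hab hw1 hw2 ha hb
  have hwP : ∀ p : Ω, x • p = p ↔ x • (w • p) = w • p := by
    have key : ∀ p : Ω, x • p = p → x • (w • p) = w • p := fun p hp => by
      have e : x * w = w * x⁻¹ := by rw [← hwx, ← mul_assoc, ← mul_assoc, hw, one_mul]
      rw [← mul_smul, e, mul_smul, inv_smul_eq_iff.2 hp.symm]
    exact fun p => ⟨key p, fun h => by simpa [← mul_smul, ← mul_assoc, hw] using key _ h⟩
  let σ : Equiv.Perm {p : Ω // x • p = p} := (MulAction.toPerm w).subtypePerm (fun p => (hwP p).symm)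
  haveI : Fact (Nat.Prime 2) := ⟨Nat.prime_two⟩
  obtain ⟨⟨e, hxe⟩, he⟩ := Equiv.Perm.exists_fixed_point_of_prime (n := 1) hodd (σ := σ) (by
    refine Equiv.ext fun p => Subtype.ext ?_
    show w • w • (p : Ω) = p
    rw [← mul_smul, hw, one_smul])
  have he' : w • e = e := congrArg Subtype.val he
  have hw1' : w ≠ 1 := fun e' => hab (by rw [e', one_smul] at hw1; exact hw1)
  have hwi : Nat.card {p : Ω // w • p = p} = i :=
    card_fix_of_commute D hw hw1' (Commute.refl w) hw1'
  have hi1 : i = 1 := by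
    haveI : Nonempty {p : Ω // w • p = p} := ⟨⟨e, he'⟩⟩
    have : 0 < Nat.card {p : Ω // w • p = p} := Nat.card_pos
    omega
  subst hi1
  obtain ⟨b', hb', hb'e⟩ : ∃ b' : Ω, x • b' = b' ∧ b' ≠ e := by
    by_cases hae : a = e
    · exact ⟨b, hb, fun h => hab (hae.trans h.symm)⟩
    · exact ⟨a, ha, hae⟩
  set K := pairStab G e b'
  -- all involutions fixing `e` invert `x`
  have hmem : ∀ h : K, IsConj t ((h : G) * w * (h : G)⁻¹) ∧ ((h : G) * w * (h : G)⁻¹) • e = e :=
    fun h => by
    refine ⟨(isConj_of_sq D hw hw1').trans (isConj_iff.2 ⟨h, rfl⟩), ?_⟩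
    rw [mul_smul, mul_smul, inv_smul_eq_iff.2 h.2.1.symm, he', h.2.1]
  let f : K → {s : G // IsConj t s ∧ s • e = e} := fun h => ⟨_, hmem h⟩
  have hf : Function.Injective f := fun g h hgh => by
    by_contra hne
    have e' : (g : G) * w * (g : G)⁻¹ = (h : G) * w * (h : G)⁻¹ := congrArg Subtype.val hgh
    have hc' : Commute ((g : G)⁻¹ * h) w := by
      show (g : G)⁻¹ * h * w = w * ((g : G)⁻¹ * h)
      calc (g : G)⁻¹ * h * w = (g : G)⁻¹ * ((h : G) * w * (h : G)⁻¹) * h := by group
        _ = (g : G)⁻¹ * ((g : G) * w * (g : G)⁻¹) * h := by rw [e']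
        _ = w * ((g : G)⁻¹ * h) := by group
    have hk : (g : G)⁻¹ * h ∈ K := mul_mem (inv_mem g.2) h.2
    have h1 := card_fix_of_commute D hw hw1' hc'
      (fun h1 => hne (Subtype.ext (inv_mul_eq_one.1 h1)))
    have : Function.Injective (![⟨e, hk.1⟩, ⟨b', hk.2⟩] :
        Fin 2 → {p : Ω // ((g : G)⁻¹ * h) • p = p}) := by
      intro p q hpq
      have hpq' := congrArg Subtype.val hpq
      clear hpq
      fin_cases p <;> fin_cases q <;> simp [hb'e, hb'e.symm] at hpq' ⊢
    have := Nat.card_le_card_of_injective _ this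
    rw [Nat.card_fin] at this
    omega
  have hcard : Nat.card {s : G // IsConj t s ∧ s • e = e} = Nat.card K := by
    haveI : Nontrivial Ω := ⟨⟨a, b, hab⟩⟩
    have h2 : 2 ≤ Nat.card Ω := Finite.one_lt_card
    have hc1 := card_class_mul D hb'e.symm
    have hC : Nat.card (Subgroup.centralizer {t}) = Nat.card Ω - 1 := by
      have := card_points D
      omega
    rw [hC, mul_comm (Nat.card Ω) (Nat.card Ω - 1), mul_assoc, mul_comm _ (Nat.card Ω - 1)] at hc1
    have hcl := Nat.eq_of_mul_eq_mul_left (by omega) hc1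
    have h3 := fixed_point_class D e
    rw [mul_one, hcl] at h3
    exact Nat.eq_of_mul_eq_mul_left (by omega) h3
  have hbij := (Nat.bijective_iff_injective_and_card f).2 ⟨hf, hcard.symm⟩
  -- a commuting pair at `e`
  obtain ⟨u, v, hu, hv, hu1, hv1, huv, hcuv⟩ := hp
  have hfu := card_fix_of_commute D hu hu1 (Commute.refl u) hu1
  obtain ⟨hsub, ⟨⟨p, hp⟩⟩⟩ := Nat.card_eq_one_iff_unique.1 hfu
  have hvp : v • p = p :=
    congrArg Subtype.val (hsub.elim ⟨v • p, fix_of_commute hcuv.symm hp⟩ ⟨p, hp⟩)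
  obtain ⟨g, hg⟩ : ∃ g : G, g • p = e := by
    by_cases hpe : p = e
    · exact ⟨1, by rw [one_smul, hpe]⟩
    · obtain ⟨g, hg, -⟩ := pair_exists D hpe (Ne.symm hpe)
      exact ⟨g, hg⟩
  have hinvx : ∀ s : G, s * s = 1 → s ≠ 1 → s • p = p →
      (g * s * g⁻¹) * x * (g * s * g⁻¹) = x⁻¹ := fun s hs hs1 hsp => by
    obtain ⟨h, hh⟩ := hbij.2 ⟨g * s * g⁻¹,
      (isConj_of_sq D hs hs1).trans (isConj_iff.2 ⟨g, rfl⟩),
      by rw [mul_smul, mul_smul, ← hg, inv_smul_smul, hsp]⟩
    have e' : (h : G) * w * (h : G)⁻¹ = g * s * g⁻¹ := congrArg Subtype.val hh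
    have hcx : Commute (h : G) x := pair_comm D hb'e.symm h.2 ⟨hxe, hb'⟩
    rw [← e']
    calc (h : G) * w * (h : G)⁻¹ * x * ((h : G) * w * (h : G)⁻¹)
        = (h : G) * w * ((h : G)⁻¹ * x * h) * w * (h : G)⁻¹ := by group
      _ = (h : G) * (w * x * w) * (h : G)⁻¹ := by
        rw [show (h : G)⁻¹ * x * h = x by rw [mul_assoc, ← hcx.eq, inv_mul_cancel_left]]; group
      _ = x⁻¹ := by rw [hwx, hcx.inv_right.eq, mul_inv_cancel_right]
  have hsq : ∀ s : G, s * s = 1 → (g * s * g⁻¹) * (g * s * g⁻¹) = 1 := fun s hs => by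
    rw [show g * s * g⁻¹ * (g * s * g⁻¹) = g * (s * s) * g⁻¹ by group, hs, mul_one, mul_inv_cancel]
  refine hno (g * (u * v) * g⁻¹) (hsq _ ?_) ?_ ?_
  · rw [mul_assoc, ← mul_assoc v, ← hcuv.eq, mul_assoc u v v, hv, mul_one, hu]
  · rw [Ne, conj_eq_one_iff, ← eq_inv_iff_mul_eq_one, inv_eq_of_mul_eq_one_right hv]
    exact huv
  · have := hprod (hsq u hu) (hsq v hv) (hinvx u hu hu1 hp) (hinvx v hv hv1 hvp)
    rw [show g * u * g⁻¹ * (g * v * g⁻¹) = g * (u * v) * g⁻¹ by group] at this
    exact Subgroup.mem_centralizer_singleton_iff.1 this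

theorem smul_pow_fix {g : G} {y : Ω} (hy : g • y = y) (m : ℕ) : g ^ m • y = y :=
  pow_mem (show g ∈ stabilizer G y from hy) m

/-- Elements of odd order in the centraliser fix exactly the fixed points of `t`. -/
theorem odd_fix (D : Data G Ω i t) {z : G} (hz : Commute z t) (hodd : Odd (orderOf z)) {x : Ω}
    (hx : t • x = x) : z • x = x := by
  classical
  rcases eq_or_ne z 1 with rfl | hz1
  · exact one_smul _ _
  have hpow : (t * z) ^ orderOf z = t := by
    rw [hz.symm.mul_pow, pow_orderOf_eq_one, mul_one, ← pow_mod_orderOf, D.ord,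
      Nat.odd_iff.1 hodd, pow_one]
  have hne : t * z ≠ 1 := fun e => t_ne_one D (by rw [← hpow, e, one_pow])
  have hfix : ∀ y : Ω, (t * z) • y = y → t • y = y ∧ z • y = y := fun y hy => by
    have h1 : t • y = y := by
      have := smul_pow_fix hy (orderOf z)
      rwa [hpow] at this
    refine ⟨h1, ?_⟩
    calc z • y = t⁻¹ • ((t * z) • y) := by rw [← mul_smul, inv_mul_cancel_left]
      _ = y := by rw [hy, inv_smul_eq_iff, h1]
  let f : {y : Ω // (t * z) • y = y} → {y : Ω // t • y = y} := fun y => ⟨y, (hfix y y.2).1⟩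
  have hb : Function.Bijective f := by
    refine (Nat.bijective_iff_injective_and_card f).2
      ⟨fun p q h => Subtype.ext (congrArg Subtype.val h :), ?_⟩
    rw [D.fix (t * z) ((Commute.refl t).mul_left hz) hne, D.fix t (Commute.refl t) (t_ne_one D)]
  obtain ⟨y, hy⟩ := hb.2 ⟨x, hx⟩
  have : (y : Ω) = x := congrArg Subtype.val hy
  exact this ▸ (hfix y y.2).2

end CfsgLib.ConstFixity
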