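import Cfsg.Agent.ConstFixity.Cases

/-!
# An involution cannot fix more than two points

Otherwise its centraliser is elementary abelian of order `i ^ 2`, a Sylow subgroup, and all its
involutions are conjugate in its normaliser, so `i ^ 2 - 1` divides the group order.
-/

set_option autoImplicit false
set_option linter.style.haveILetI false
set_option linter.unusedSectionVars false

namespace CfsgLib.ConstFixity

open MulAction

variable {G Ω : Type*} [Group G] [MulAction G Ω] {i : ℕ} {t : G} [Finite G] [Finite Ω]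

theorem arith {q : ℕ} (hq : 3 ≤ q) (h : q * q - 1 ∣ (q + 1) * (q * (q + 1) - 1)) : False := by
  obtain ⟨r, rfl⟩ : ∃ r, q = r + 1 := ⟨q - 1, by omega⟩
  have e1 : (r + 1) * (r + 1) - 1 = (r + 2) * r := by
    have : (r + 1) * (r + 1) = (r + 2) * r + 1 := by ring
    omega
  have e2 : (r + 1) * (r + 1 + 1) - 1 = r * (r + 3) + 1 := by
    have : (r + 1) * (r + 1 + 1) = r * (r + 3) + 1 + 1 := by ring
    omega
  rw [e1, e2, show r + 1 + 1 = r + 2 from rfl] at h
  have h2 := Nat.dvd_of_mul_dvd_mul_left (by omega) h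
  have h3 : r ∣ 1 := (Nat.dvd_add_right (Dvd.intro _ rfl)).1 h2
  have := Nat.le_of_dvd one_pos h3
  omega

theorem pair_count (D : Data G Ω i t) {a b : Ω} (hab : a ≠ b) :
    Nat.card Ω * (Nat.card Ω - 1) *
        Nat.card {s : G // IsConj t s ∧ s ∈ pairStab G a b} =
      Nat.card {s : G // IsConj t s} * (i * (i - 1)) := by
  classical
  haveI := Fintype.ofFinite Ω
  haveI := Fintype.ofFinite G
  let Pr := {p : Ω × Ω // p.1 ≠ p.2}
  let e : (Σ p : Pr, {s : G // IsConj t s ∧ s ∈ pairStab G p.1.1 p.1.2}) ≃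
      Σ s : {s : G // IsConj t s},
        {p : {x : Ω // (s : G) • x = x} × {x : Ω // (s : G) • x = x} // p.1 ≠ p.2} :=
    { toFun := fun q => ⟨⟨q.2.1, q.2.2.1⟩, ⟨(⟨q.1.1.1, q.2.2.2.1⟩, ⟨q.1.1.2, q.2.2.2.2⟩),
        fun h => q.1.2 (congrArg Subtype.val h)⟩⟩
      invFun := fun q => ⟨⟨(q.2.1.1.1, q.2.1.2.1), fun h => q.2.2 (Subtype.ext h)⟩,
        ⟨q.1.1, q.1.2, ⟨q.2.1.1.2, q.2.1.2.2⟩⟩⟩
      left_inv := fun q => rfl
      right_inv := fun q => rfl }
  have h := Nat.card_congr e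
  have hR : ∀ s : {s : G // IsConj t s}, Nat.card
      {p : {x : Ω // (s : G) • x = x} × {x : Ω // (s : G) • x = x} // p.1 ≠ p.2} = i * (i - 1) :=
    fun s => by
    rw [card_pairs (Ω := {x : Ω // (s : G) • x = x}),
      card_fix_of_commute D (sq_of_isConj D s.2) (ne_one_of_isConj D s.2) (Commute.refl _)
        (ne_one_of_isConj D s.2)]
  have hL : ∀ p : Pr, Nat.card {s : G // IsConj t s ∧ s ∈ pairStab G p.1.1 p.1.2} =
      Nat.card {s : G // IsConj t s ∧ s ∈ pairStab G a b} := fun p => by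
    obtain ⟨g, hga, hgb⟩ := pair_exists D hab p.2
    refine Nat.card_congr ((MulAut.conj g⁻¹).toEquiv.subtypeEquiv fun s => ?_)
    show IsConj t s ∧ _ ↔ IsConj t (g⁻¹ * s * g⁻¹⁻¹) ∧ g⁻¹ * s * g⁻¹⁻¹ ∈ pairStab G a b
    rw [inv_inv, Subgroup.mem_inf, Subgroup.mem_inf, mem_stabilizer_iff, mem_stabilizer_iff,
      mem_stabilizer_iff, mem_stabilizer_iff, mul_smul, mul_smul, hga, inv_smul_eq_iff, hga,
      mul_smul, mul_smul, hgb, inv_smul_eq_iff, hgb]
    refine and_congr_left fun _ => ⟨fun h => h.trans (isConj_iff.2 ⟨g⁻¹, by group⟩),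
      fun h => h.trans (isConj_iff.2 ⟨g, by group⟩)⟩
  rw [Nat.card_sigma, Nat.card_sigma] at h
  simp only [hL, hR, Finset.sum_const, Finset.card_univ, smul_eq_mul] at h
  rw [← Nat.card_eq_fintype_card, ← Nat.card_eq_fintype_card] at h
  rwa [card_pairs] at h

/-- No involution fixes three points. -/
theorem fixity_small (D : Data G Ω i t) : i ≤ 2 := by
  classical
  by_contra hi
  push Not at hi
  haveI : Fact (Nat.Prime 2) := ⟨Nat.prime_two⟩
  set C := Subgroup.centralizer ({t} : Set G)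
  set F : Set Ω := {x | t • x = x}
  have hFc : Nat.card F = i := D.fix t (Commute.refl t) (t_ne_one D)
  have hmemC : ∀ {g : G}, g ∈ C ↔ Commute g t := fun {g} => Subgroup.mem_centralizer_singleton_iff
  have hpres : ∀ h : C, ∀ x : Ω, t • x = x ↔ t • ((h : G) • x) = (h : G) • x := fun h x =>
    ⟨fix_of_commute (hmemC.1 h.2), fun hx => by
      simpa using fix_of_commute (hmemC.1 (h⁻¹).2) hx⟩
  let φ : C →* Equiv.Perm F :=
    { toFun := fun h => (MulAction.toPerm (h : G)).subtypePerm (fun x => (hpres h x).symm)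
      map_one' := Equiv.ext fun x => Subtype.ext (one_smul G (x : Ω))
      map_mul' := fun g h => Equiv.ext fun x => Subtype.ext (mul_smul (g : G) (h : G) (x : Ω)) }
  have hφ : ∀ (h : C) (x : F), ((φ h x : F) : Ω) = (h : G) • (x : Ω) := fun h x => rfl
  have hP : IsPGroup 2 φ.range := by
    rintro ⟨-, h, rfl⟩
    obtain ⟨j, m, hm, e⟩ := Nat.exists_eq_pow_mul_and_not_dvd
      (orderOf_pos h).ne' 2 (by norm_num)
    refine ⟨j, Subtype.ext ?_⟩
    show φ h ^ 2 ^ j = 1
    rw [← map_pow]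
    refine Equiv.ext fun x => Subtype.ext ?_
    refine odd_fix D (hmemC.1 (h ^ 2 ^ j).2) ?_ x.2
    rw [Subgroup.orderOf_coe, orderOf_pow' _ (by positivity : 2 ^ j ≠ 0), e,
      Nat.gcd_mul_right_left, Nat.mul_div_cancel_left m (by positivity)]
    exact Nat.odd_iff.2 (by omega)
  have htmem : ∀ {a b : Ω}, a ∈ F → b ∈ F → t ∈ pairStab G a b := fun ha hb =>
    Subgroup.mem_inf.2 ⟨ha, hb⟩
  have hswap : ∀ {a b : Ω}, a ∈ F → b ∈ F → a ≠ b →
      ∃ w : C, (w : G) • a = b ∧ (w : G) • b = a := fun {a b} ha hb hab => by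
    obtain ⟨w, h1, h2, hw⟩ := exists_swap D hab
    have e := swap_inverts D hab h1 h2 (htmem ha hb)
    rw [inv_eq_of_mul_eq_one_right (sq_of_isConj D (IsConj.refl t))] at e
    refine ⟨⟨w, hmemC.2 ?_⟩, h1, h2⟩
    show w * t = t * w
    calc w * t = w * t * (w * w) := by rw [hw, mul_one]
      _ = (w * t * w) * w := by group
      _ = t * w := by rw [e]
  obtain ⟨a, ha⟩ : ∃ a, a ∈ F := by
    haveI : Nonempty F := (Nat.card_pos_iff.1 (by omega : 0 < Nat.card F)).1
    exact ⟨(Classical.arbitrary F : F), (Classical.arbitrary F : F).2⟩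
  -- the fixed points form one orbit of a two-group
  have horb : orbit φ.range (⟨a, ha⟩ : F) = Set.univ := Set.eq_univ_of_forall fun x => by
    by_cases hxa : (x : Ω) = a
    · exact ⟨1, Subtype.ext (by simpa using hxa.symm)⟩
    obtain ⟨w, h1, -⟩ := hswap ha x.2 (Ne.symm hxa)
    exact ⟨⟨φ w, w, rfl⟩, Subtype.ext h1⟩
  obtain ⟨e, he⟩ := hP.card_orbit (⟨a, ha⟩ : F)
  rw [horb, Nat.card_congr (Equiv.Set.univ F), hFc] at he
  have hieven : 2 ∣ i := by
    rcases e with - | e
    · omega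
    · exact ⟨2 ^ e, by rw [he]; ring⟩
  obtain ⟨b, hb, hba, hfixb⟩ : ∃ b, b ∈ F ∧ b ≠ a ∧
      ∀ h : C, (h : G) • a = a → (h : G) • b = b := by
    set S := stabilizer φ.range (⟨a, ha⟩ : F)
    have hS : IsPGroup 2 S := hP.to_subgroup _
    have h := hS.card_modEq_card_fixedPoints F
    rw [hFc] at h
    have ha' : (⟨a, ha⟩ : F) ∈ fixedPoints S F := fun g => g.2
    have h0 : 0 < Nat.card (fixedPoints S F) :=
      Nat.card_pos_iff.2 ⟨⟨⟨_, ha'⟩⟩, inferInstance⟩
    have h2 : 2 ∣ Nat.card (fixedPoints S F) := by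
      unfold Nat.ModEq at h
      omega
    obtain ⟨⟨⟨b, hb⟩, hb'⟩, hne⟩ : ∃ y : fixedPoints S F, y ≠ ⟨_, ha'⟩ := by
      haveI : Nontrivial (fixedPoints S F) := Finite.one_lt_card_iff_nontrivial.1 (by
        have := Nat.le_of_dvd h0 h2
        omega)
      exact exists_ne _
    refine ⟨b, hb, fun e => hne (Subtype.ext (Subtype.ext e)), fun h hha => ?_⟩
    exact congrArg Subtype.val
      (hb' ⟨⟨φ h, h, rfl⟩, Subtype.ext hha⟩)
  set K := pairStab G a b with hK
  have hKC : ∀ {y : G}, y ∈ K → y ∈ C := fun {y} hy =>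
    hmemC.2 (pair_comm D hba.symm hy (htmem ha hb))
  have hKfix : ∀ {y : G}, y ∈ K → ∀ x ∈ F, y • x = x := fun {y} hy x hx => by
    by_cases hxa : x = a
    · rw [hxa]; exact hy.1
    have hle : pairStab G a x ≤ K := fun z hz => Subgroup.mem_inf.2 ⟨hz.1,
      hfixb ⟨z, hmemC.2 (pair_comm D (Ne.symm hxa) hz (htmem ha hx))⟩ hz.1⟩
    have := Subgroup.eq_of_le_of_card_ge hle
      (card_pairStab_congr D hba.symm (Ne.symm hxa)).le
    rw [← this] at hy
    exact hy.2
  have hmemK : ∀ h : C, (h : G) • a = a → (h : G) ∈ K := fun h hh =>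
    Subgroup.mem_inf.2 ⟨hh, hfixb h hh⟩
  -- the elements outside `K` are involutions
  have hout : ∀ h : C, (h : G) • a ≠ a → (h : G) * h = 1 := fun h hh => by
    have hd : (h : G) • a ∈ F := (hpres h a).1 ha
    obtain ⟨w, h1, h2⟩ := hswap hd ha hh
    have hk : ((w * h : C) : G) ∈ K := hmemK _ (by rw [Subgroup.coe_mul, mul_smul, h1])
    refine swap_sq D hh.symm rfl ?_
    have hw : (w : G) * w = 1 := swap_sq D hh h1 h2
    calc (h : G) • ((h : G) • a) = ((w : G) * ((w : G) * h)) • ((h : G) • a) := by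
          rw [← mul_assoc (w : G), hw, one_mul]
      _ = (w : G) • ((h : G) • a) := by
          rw [mul_smul]; exact congrArg _ (hKfix hk _ hd)
      _ = a := h1
  obtain ⟨c, hc, hca, hcb⟩ : ∃ c, c ∈ F ∧ c ≠ a ∧ c ≠ b := by
    by_contra h
    push Not at h
    have : F ⊆ {a, b} := fun x hx => by
      by_cases hxa : x = a
      · exact Or.inl hxa
      · exact Or.inr (h x hx hxa)
    have h2 : F.ncard ≤ ({a, b} : Set Ω).ncard := Set.ncard_le_ncard this (Set.toFinite _)
    rw [Set.ncard_pair hba.symm, ← Nat.card_coe_set_eq, hFc] at h2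
    omega
  obtain ⟨w₁, hw1a, hw1b⟩ := hswap ha hb hba.symm
  obtain ⟨w₂, hw2a, -⟩ := hswap ha hc (Ne.symm hca)
  have hinvK : ∀ h : C, (h : G) • a ≠ a → ∀ y ∈ K, (h : G) * y * h = y⁻¹ := fun h hh y hy => by
    have e := hout (h * ⟨y, hKC hy⟩) (by
      rw [Subgroup.coe_mul, mul_smul, hy.1]; exact hh)
    rw [Subgroup.coe_mul] at e
    exact eq_inv_of_mul_eq_one_left (by rw [← e]; group)
  have hexpK : ∀ y ∈ K, y * y = 1 := fun y hy => by
    have h1 : (w₁ : G) • a ≠ a := by rw [hw1a]; exact hba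
    have h2 : (w₂ : G) • a ≠ a := by rw [hw2a]; exact hca
    have h12 : ((w₁ * w₂ : C) : G) • a ≠ a := by
      rw [Subgroup.coe_mul, mul_smul, hw2a]
      intro e'
      exact hcb (smul_left_cancel (w₁ : G) (e'.trans hw1b.symm))
    have e12 := hinvK _ h12 y hy
    have esq := hout _ h12
    rw [Subgroup.coe_mul] at e12 esq
    have ecomm : (w₁ : G) * w₂ = (w₂ : G) * w₁ := by
      rw [eq_inv_of_mul_eq_one_left esq, mul_inv_rev, inv_eq_of_mul_eq_one_right (hout _ h1),
        inv_eq_of_mul_eq_one_right (hout _ h2)]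
    have : (w₁ : G) * w₂ * y * ((w₁ : G) * w₂) = y := by
      conv_lhs => rw [show (w₁ : G) * w₂ * y * ((w₁ : G) * w₂) = (w₁ : G) * w₂ * y * ((w₂ : G) * w₁)
        by rw [← ecomm]]
      calc (w₁ : G) * w₂ * y * ((w₂ : G) * w₁) = (w₁ : G) * ((w₂ : G) * y * w₂) * w₁ := by group
        _ = y := by rw [hinvK _ h2 y hy, hinvK _ h1 _ (inv_mem hy), inv_inv]
    rw [e12] at this
    exact mul_eq_one_iff_eq_inv.2 this.symm
  have hexp : ∀ h ∈ C, h * h = 1 := fun h hh => by
    by_cases hha : h • a = a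
    · exact hexpK h (hmemK ⟨h, hh⟩ hha)
    · exact hout ⟨h, hh⟩ hha
  have hCcomm : IsMulCommutative C := ⟨⟨fun x y => Subtype.ext <| by
    have e := hexp _ (x * y).2
    rw [Subgroup.coe_mul] at e ⊢
    rw [eq_inv_of_mul_eq_one_left e, mul_inv_rev, inv_eq_of_mul_eq_one_right (hexp _ x.2),
      inv_eq_of_mul_eq_one_right (hexp _ y.2)]
    rfl⟩⟩
  -- orders
  have hCcard : Nat.card C = i * Nat.card K := by
    have horbC : orbit C a = F := by
      ext x
      constructor
      · rintro ⟨h, rfl⟩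
        exact (hpres h a).1 ha
      · intro hx
        by_cases hxa : x = a
        · exact ⟨1, by rw [hxa]; exact one_smul _ _⟩
        · obtain ⟨w, h1, -⟩ := hswap ha hx (Ne.symm hxa)
          exact ⟨w, h1⟩
    haveI := Fintype.ofFinite C
    haveI : Fintype (orbit C a) := Fintype.ofFinite _
    have h := card_orbit_mul_card_stabilizer_eq_card_group C a
    rw [← Nat.card_eq_fintype_card, ← Nat.card_eq_fintype_card, ← Nat.card_eq_fintype_card,
      horbC, hFc] at h
    rw [← h]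
    congr 1
    exact Nat.card_congr
      { toFun := fun h => ⟨((h : C) : G), hmemK h h.2⟩
        invFun := fun y => ⟨⟨y, hKC y.2⟩, y.2.1⟩
        left_inv := fun h => rfl
        right_inv := fun y => rfl }
  have hinvol : Nat.card {s : G // IsConj t s ∧ s ∈ K} + 1 = Nat.card K := by
    haveI := Fintype.ofFinite K
    have e : {s : G // IsConj t s ∧ s ∈ K} ≃ {y : K // y ≠ 1} :=
      { toFun := fun s => ⟨⟨s, s.2.2⟩, fun h => ne_one_of_isConj D s.2.1 (congrArg Subtype.val h)⟩
        invFun := fun y => ⟨y.1, isConj_of_sq D (hexpK _ y.1.2) (fun h => y.2 (Subtype.ext h)),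
          y.1.2⟩
        left_inv := fun s => rfl
        right_inv := fun y => rfl }
    rw [Nat.card_congr e, Nat.card_eq_fintype_card, Nat.card_eq_fintype_card,
      Fintype.card_subtype_compl, Fintype.card_subtype_eq]
    have : 0 < Fintype.card K := Fintype.card_pos
    omega
  have hKi : Nat.card K = i := by
    haveI : Nontrivial Ω := ⟨⟨a, b, hba.symm⟩⟩
    have h2 : 2 ≤ Nat.card Ω := Finite.one_lt_card
    have hk0 : 0 < Nat.card K := Nat.card_pos
    have h1 := card_class_mul D hba.symm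
    have h3 := pair_count D hba.symm
    rw [← hK] at h1 h3
    rw [show Nat.card (Subgroup.centralizer {t}) = i * Nat.card K from hCcard, ← mul_assoc] at h1
    have h4 := Nat.eq_of_mul_eq_mul_right hk0 h1
    have hpos : 0 < Nat.card Ω * (Nat.card Ω - 1) := Nat.mul_pos (by omega) (by omega)
    rw [← mul_assoc (Nat.card {s : G // IsConj t s}), h4] at h3
    have := Nat.eq_of_mul_eq_mul_left hpos h3
    omega
  have hn : Nat.card Ω = i * (i + 1) := by
    rw [card_points D, show Nat.card (Subgroup.centralizer {t}) = i * i from hKi ▸ hCcard]; ring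
  have hG : Nat.card G = (i * i) * ((i + 1) * (i * (i + 1) - 1)) := by
    rw [card_group D hba.symm, ← hK, hKi, hn]; ring
  -- Sylow and fusion
  have hC2 : IsPGroup 2 C := fun h => ⟨1, Subtype.ext (by simpa [pow_two] using hexp _ h.2)⟩
  have hindex : ¬ 2 ∣ C.index := by
    have := C.card_mul_index
    rw [hCcard, hKi, hG] at this
    have hii : i * i ≠ 0 := by positivity
    rw [Nat.eq_of_mul_eq_mul_left (Nat.pos_of_ne_zero hii) this]
    intro h
    have hev : Even i := even_iff_two_dvd.2 hieven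
    have hev' : 2 ∣ i * (i + 1) := dvd_mul_of_dvd_left hieven _
    have hpos' : 0 < i * (i + 1) := by positivity
    rcases Nat.prime_two.dvd_mul.1 h with h' | h' <;> omega
  set S : Sylow 2 G := hC2.toSylow hindex
  haveI : IsMulCommutative S := hCcomm
  let N := Subgroup.normalizer (C : Set G)
  have hNC : ∀ n : N, ∀ y ∈ C, (n : G) * y * (n : G)⁻¹ ∈ C := fun n y hy =>
    (Subgroup.mem_normalizer_iff.1 n.2 y).1 hy
  letI : MulAction N {u : C // u ≠ 1} :=
    { smul := fun n u => ⟨⟨(n : G) * u.1 * (n : G)⁻¹, hNC n _ u.1.2⟩, fun e =>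
        u.2 (Subtype.ext (conj_eq_one_iff.1 (congrArg Subtype.val e)))⟩
      one_smul := fun u => Subtype.ext (Subtype.ext (by
        show (1 : G) * u.1 * (1 : G)⁻¹ = u.1
        group))
      mul_smul := fun m n u => Subtype.ext (Subtype.ext (by
        show (m : G) * n * u.1 * ((m : G) * n)⁻¹ = m * ((n : G) * u.1 * (n : G)⁻¹) * (m : G)⁻¹
        group)) }
  have htC : t ∈ C := hmemC.2 (Commute.refl t)
  have htrans : orbit N (⟨⟨t, htC⟩, fun e => t_ne_one D (congrArg Subtype.val e)⟩ :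
      {u : C // u ≠ 1}) = Set.univ := Set.eq_univ_of_forall fun u => by
    obtain ⟨g, hg⟩ := isConj_iff.1
      (isConj_of_sq D (hexp _ u.1.2) (fun e => u.2 (Subtype.ext e)))
    obtain ⟨n, hn', hnt⟩ := S.conj_eq_normalizer_conj_of_mem t g⁻¹ htC
      (by rw [inv_inv, hg]; exact u.1.2)
    refine ⟨⟨n⁻¹, inv_mem hn'⟩, Subtype.ext (Subtype.ext ?_)⟩
    show n⁻¹ * t * n⁻¹⁻¹ = u.1
    rw [inv_inv, ← hnt, inv_inv, hg]
  haveI := Fintype.ofFinite N
  have hdiv := Nat.card_congr (orbitEquivQuotientStabilizer N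
    (⟨⟨t, htC⟩, fun e => t_ne_one D (congrArg Subtype.val e)⟩ : {u : C // u ≠ 1}))
  rw [htrans, Nat.card_congr (Equiv.Set.univ _)] at hdiv
  haveI := Fintype.ofFinite C
  rw [Nat.card_eq_fintype_card, Fintype.card_subtype_compl, Fintype.card_subtype_eq,
    ← Nat.card_eq_fintype_card, hCcard, hKi] at hdiv
  have hd : i * i - 1 ∣ Nat.card G :=
    (hdiv ▸ Subgroup.card_quotient_dvd_card _).trans (Subgroup.card_subgroup_dvd_card N)
  rw [hG] at hd
  have hcop : Nat.Coprime (i * i - 1) (i * i) := by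
    have : 0 < i * i := by positivity
    exact Nat.coprime_self_sub_left (by omega) |>.2 (Nat.coprime_one_left _)
  exact arith hi (hcop.dvd_of_dvd_mul_left hd)

end CfsgLib.ConstFixity
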