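import Cfsg.Agent.CharactersDeep.ZassenhausClassification
import Cfsg.Agent.SuzukiUnique.Main

/-!
# Simple Zassenhaus groups up to isomorphism
-/

set_option autoImplicit false
set_option linter.style.haveILetI false
set_option linter.unusedSectionVars false

namespace CfsgLib.ConstFixity

open MulAction

/-- A simple Zassenhaus group is `PSL₂` or a Suzuki group, up to isomorphism. -/
theorem zassenhaus_iso {G Ω : Type*} [Group G] [Finite G] [MulAction G Ω] [Fintype Ω]
    [IsSimpleGroup G] (hZ : Cfsg.IsZassenhausGroup G Ω) :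
    (∃ (F : Type) (_ : Field F) (_ : Fintype F),
        Nonempty (G ≃* Matrix.ProjectiveSpecialLinearGroup (Fin 2) F)) ∨ Cfsg.Lie.IsoSuzuki G := by
  classical
  haveI := hZ.1
  obtain ⟨g, hg, a, b, hab, hga, hgb⟩ := hZ.2.2.2.1
  obtain ⟨Q, hQle, hQn, hQfix, -, -, hQcard, hQmem⟩ := CfsgLib.Zassenhaus.exists_kernel hZ a
  have hQc : Nat.card Q + 1 = Fintype.card Ω := by rw [hQcard, Nat.card_eq_fintype_card]
  rcases Nat.even_or_odd (Nat.card ↥(stabilizer G a ⊓ stabilizer G b)) with heven | hodd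
  · obtain ⟨K, fK, fT, -, -, -, hiso⟩ :=
      CfsgLib.Zassenhaus.Even.exists_equiv_of_simple hZ hab heven
    exact Or.inl ⟨K, fK, fT, hiso⟩
  have hΩ := CfsgLib.Perm.Zassenhaus.card_ge_three hZ
  rcases Cfsg.Agent.S0885.result hZ hab (Fintype.card Ω - 1) _ (by omega) rfl hodd Q hQle hQc hQfix
    with hlarge | ⟨h2, ⟨u, v, huv⟩, -⟩
  · left
    have hlarge' : Fintype.card Ω - 2 ≤ 2 * Nat.card ↥(stabilizer G a ⊓ stabilizer G b) := by omega
    obtain ⟨hQcomm, -⟩ :=
      CfsgLib.CharactersDeep.ZassenhausElementary.kernel_elementary hZ hab hQle hQn hQfix hQc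
        hlarge'
    rcases CfsgLib.Classification.PSLTwoGeneral.abelian_kernel_cases hZ hQle hQn hQfix hQcard hQcomm
      with ⟨h3, -⟩ | ⟨K, fK, fT, -, -, -, hiso⟩
    · refine CfsgLib.CharactersDeep.ZassenhausClassification.exists_equiv_of_full hZ hab hodd ?_
        hQle hQn hQfix hQc hQmem
      obtain ⟨hdvd, -⟩ := CfsgLib.Classification.PSLTwoGeneral.card_pair_stab_dvd hZ hab
      refine le_antisymm (Nat.le_of_dvd (by omega) hdvd) ?_
      have hX : Fintype.card Ω - 2 = (({a, b} : Finset Ω)ᶜ).card := by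
        rw [Finset.card_compl, Finset.card_pair hab]
      rw [hX, ← Fintype.card_coe, ← Nat.card_eq_fintype_card]
      obtain ⟨c, hc⟩ := Finset.card_pos.1 (by omega : 0 < (({a, b} : Finset Ω)ᶜ).card)
      simp only [Finset.mem_compl, Finset.mem_insert, Finset.mem_singleton, not_or] at hc
      have hsub : ∀ x : ↥(({a, b} : Finset Ω)ᶜ), ∃ d : ↥(stabilizer G a ⊓ stabilizer G b),
          (d : G) • c = (x : Ω) := by
        rintro ⟨x, hx⟩
        simp only [Finset.mem_compl, Finset.mem_insert, Finset.mem_singleton, not_or] at hx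
        obtain ⟨d, h1, h2', h3'⟩ := CfsgLib.Perm.SharplyThree.exists_triple h3 hab (Ne.symm hc.1)
          (Ne.symm hc.2) hab (Ne.symm hx.1) (Ne.symm hx.2)
        exact ⟨⟨d, Subgroup.mem_inf.2 ⟨h1, h2'⟩⟩, h3'⟩
      choose d hd using hsub
      exact Nat.card_le_card_of_injective d fun x y h =>
        Subtype.ext ((hd x).symm.trans (h ▸ hd y))
    · exact ⟨K, fK, fT, hiso⟩
  · right
    have hreg : ∀ y z : Ω, y ≠ a → z ≠ a → ∃! u : Q, (u : G) • y = z := fun y z hy hz =>
      CfsgLib.CharactersDeep.Zassenhaus.orbit_bijective hQle hQcard hQfix hy z hz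
    exact CfsgLib.SuzukiUnique.isoSuzuki hZ Q hQle hQn hreg h2
      ⟨u, u.2, v, v.2, fun e => huv (Subtype.ext e)⟩

end CfsgLib.ConstFixity
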