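import Cfsg.Agent.ConstFixity.Large
import Cfsg.Agent.ConstFixity.ZassenhausIso
import Cfsg.Agent.Perm.SharplyTwo
import Cfsg.Agent.Zassenhaus.Basic

/-!
# The classification
-/

set_option autoImplicit false
set_option linter.style.haveILetI false
set_option linter.unusedSectionVars false

namespace CfsgLib.ConstFixity

open MulAction

variable {G Ω : Type*} [Group G] [MulAction G Ω] {i : ℕ} {t : G} [Finite G] [Finite Ω]

theorem fix_three (D : Data G Ω i t) (hp : HasPair G) {g : G} {a b c : Ω} (hab : a ≠ b)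
    (hbc : b ≠ c) (hac : a ≠ c) (ha : g • a = a) (hb : g • b = b) (hc : g • c = c) : g = 1 := by
  classical
  by_contra hg
  rcases Nat.lt_or_ge i 2 with hi | hi
  · exact fix_three_small D (by omega) hp hg hab hbc hac ha hb hc
  have hi2 : i = 2 := le_antisymm (fixity_small D) hi
  subst hi2
  obtain ⟨hsub, hne⟩ : ∃ p : {x : Ω // t • x = x}, ∃ q, p ≠ q := by
    haveI : Nontrivial {x : Ω // t • x = x} := Finite.one_lt_card_iff_nontrivial.1 (by
      rw [D.fix t (Commute.refl t) (t_ne_one D)]; norm_num)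
    exact exists_pair_ne _
  obtain ⟨q, hpq⟩ := hne
  obtain ⟨k, hk1, hk2⟩ := pair_exists D (fun e => hpq (Subtype.ext e)) hab
  have hs : k * t * k⁻¹ ∈ pairStab G a b := by
    refine Subgroup.mem_inf.2 ⟨mem_stabilizer_iff.2 ?_, mem_stabilizer_iff.2 ?_⟩
    · rw [← hk1, mul_smul, mul_smul, inv_smul_smul, hsub.2]
    · rw [← hk2, mul_smul, mul_smul, inv_smul_smul, q.2]
  have hconj : IsConj t (k * t * k⁻¹) := isConj_iff.2 ⟨k, rfl⟩
  have h1 := card_fix_of_commute D (sq_of_isConj D hconj) (ne_one_of_isConj D hconj)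
    (pair_comm D hab ⟨ha, hb⟩ hs) hg
  have := three_le_fix hab hbc hac ha hb hc
  omega

/-- A group in which every element interchanging two points is conjugate to `t` and only the
identity fixes three points is simple, if it is a Zassenhaus group. -/
theorem isSimple (D : Data G Ω i t) (hZ : Cfsg.IsZassenhausGroup G Ω) : IsSimpleGroup G := by
  haveI : Nontrivial G := ⟨⟨t, 1, t_ne_one D⟩⟩
  refine IsSimpleGroup.mk fun N hN => ?_
  rcases eq_or_ne N ⊥ with h | h
  · exact Or.inl h
  right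
  haveI := hN
  have h2 := CfsgLib.Zassenhaus.two_transitive_normal hZ N h
  obtain ⟨p, hp⟩ := exists_moved D
  have key : ∀ a b : Ω, a ≠ b → ∀ g : G, g • a = b → g • b = a → g ∈ N := fun a b hab g h1 h3 => by
    obtain ⟨m, hm1, hm2⟩ := is_two_pretransitive_iff.1 h2 hab hab.symm
    have hm : IsConj t (m : G) :=
      isConj_of_swap D (a := a) (by show m • a ≠ a; rw [hm1]; exact hab.symm)
        (by show m • m • a = a; rw [hm1, hm2])
    have hg : IsConj (m : G) g := hm.symm.trans
      (isConj_of_swap D (a := a) (by rw [h1]; exact hab.symm) (by rw [h1, h3]))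
    obtain ⟨c, rfl⟩ := isConj_iff.1 hg
    exact hN.conj_mem _ m.2 c
  refine eq_top_iff.2 fun g _ => ?_
  obtain ⟨w, hw1, hw2, hw⟩ := exists_swap D hp
  -- the pair stabiliser lies in `N`
  have hK : pairStab G (t • p) p ≤ N := fun y hy => by
    have h1 := key _ _ hp (w * y) (by rw [mul_smul, hy.1, hw1]) (by rw [mul_smul, hy.2, hw2])
    have h2' := key _ _ hp w hw1 hw2
    exact (N.mul_mem_cancel_left h2').1 h1
  by_cases hne : g • (t • p) = g • p
  · exact absurd (smul_left_cancel g hne) hp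
  obtain ⟨m, hm1, hm2⟩ := is_two_pretransitive_iff.1 h2 hp hne
  have h1 : (m : G)⁻¹ * g ∈ N := hK (Subgroup.mem_inf.2
    ⟨by rw [mem_stabilizer_iff, mul_smul, inv_smul_eq_iff]; exact hm1.symm,
     by rw [mem_stabilizer_iff, mul_smul, inv_smul_eq_iff]; exact hm2.symm⟩)
  exact (N.mul_mem_cancel_left (inv_mem m.2)).1 h1

/-- The classification. -/
theorem classification (D : Data G Ω i t) :
    (∃ (F : Type) (_ : Field F) (_ : Fintype F),
        Nonempty (G ≃* Matrix.ProjectiveSpecialLinearGroup (Fin 2) F)) ∨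
      Cfsg.Lie.IsoSuzuki G ∨ HasRegular G Ω := by
  classical
  haveI := Fintype.ofFinite Ω
  haveI := D.faith
  by_cases hp : HasPair G
  swap
  · exact Or.inr (Or.inr (regular_of_no_pair D hp))
  by_cases hfix : ∃ g : G, g ≠ 1 ∧ ∃ a b : Ω, a ≠ b ∧ g • a = a ∧ g • b = b
  swap
  · push Not at hfix
    have hs : ∀ (g : G) (a b : Ω), a ≠ b → g • a = a → g • b = b → g = 1 := fun g a b hab ha hb => by
      by_contra hg
      exact hfix g hg a b hab ha hb
    obtain ⟨x, hx⟩ := exists_moved D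
    haveI : Nontrivial Ω := ⟨⟨_, _, hx⟩⟩
    refine Or.inr (Or.inr ⟨Perm.SharplyTwo.kernel D.two hs, Perm.SharplyTwo.kernel_normal D.two hs,
      fun a b => ?_, fun a r hr hra => Perm.SharplyTwo.kernel_free D.two hs hr hra⟩)
    obtain ⟨r, hr⟩ := (Perm.SharplyTwo.kernel_transitive D.two hs).exists_smul_eq a b
    exact ⟨r, r.2, hr⟩
  by_cases hreg : ∀ N : Subgroup G, N.Normal → IsPretransitive N Ω → ∃ a : Ω, stabilizer N a ≠ ⊥
  · have hZ : Cfsg.IsZassenhausGroup G Ω :=
      ⟨D.faith, D.two, fun g a b c hab hbc hac ha hb hc => fix_three D hp hab hbc hac ha hb hc,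
        hfix, hreg⟩
    haveI := isSimple D hZ
    rcases zassenhaus_iso hZ with h | h
    · exact Or.inl h
    · exact Or.inr (Or.inl h)
  · push Not at hreg
    obtain ⟨N, hN, hNt, hNs⟩ := hreg
    refine Or.inr (Or.inr ⟨N, hN, fun a b => ?_, fun a r hr hra => ?_⟩)
    · obtain ⟨r, hr⟩ := hNt.exists_smul_eq a b
      exact ⟨r, r.2, hr⟩
    · have : (⟨r, hr⟩ : N) ∈ stabilizer N a := hra
      rw [hNs a, Subgroup.mem_bot] at this
      exact congrArg Subtype.val this

end CfsgLib.ConstFixity
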