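import Cfsg.Agent.ConstFixity.Basic
import Cfsg.Agent.S0225
import Cfsg.Agent.S0205

/-!
# Groups without two commuting involutions

They have a non-trivial abelian normal subgroup, which then acts regularly.
-/

set_option autoImplicit false
set_option linter.style.haveILetI false
set_option linter.unusedSectionVars false

namespace CfsgLib.ConstFixity

open MulAction

variable {G Ω : Type*} [Group G] [MulAction G Ω] {i : ℕ} {t : G} [Finite G] [Finite Ω]

/-- Two different commuting involutions exist. -/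
def HasPair (G : Type*) [Group G] : Prop :=
  ∃ u v : G, u * u = 1 ∧ v * v = 1 ∧ u ≠ 1 ∧ v ≠ 1 ∧ u ≠ v ∧ Commute u v

/-- The conclusion of a regular normal subgroup. -/
def HasRegular (G Ω : Type*) [Group G] [MulAction G Ω] : Prop :=
  ∃ R : Subgroup G, R.Normal ∧ (∀ x y : Ω, ∃ r ∈ R, r • x = y) ∧
    ∀ x : Ω, ∀ r ∈ R, r • x = x → r = 1

theorem regular_of_abelian (D : Data G Ω i t) (A : Subgroup G) [A.Normal] (h1 : A ≠ ⊥)
    (hc : ∀ x ∈ A, ∀ y ∈ A, x * y = y * x) : HasRegular G Ω := by
  obtain ⟨α, hα, hα1⟩ := A.ne_bot_iff_exists_ne_one.1 h1 |> fun ⟨⟨α, hα⟩, h⟩ =>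
    (⟨α, hα, fun e => h (Subtype.ext e)⟩ : ∃ α ∈ A, α ≠ 1)
  obtain ⟨p, hp⟩ : ∃ p : Ω, α • p ≠ p := by
    by_contra h
    push Not at h
    exact hα1 (eq_one_of_fix_all D h)
  have htr : ∀ x y : Ω, ∃ r ∈ A, r • x = y := fun x y => by
    by_cases hxy : x = y
    · exact ⟨1, one_mem _, by rw [one_smul, hxy]⟩
    obtain ⟨g, hg1, hg2⟩ := pair_exists D (Ne.symm hp) hxy
    refine ⟨g * α * g⁻¹, Subgroup.Normal.conj_mem inferInstance α hα g, ?_⟩
    rw [← hg1, mul_smul, mul_smul, inv_smul_smul, hg2]
  refine ⟨A, inferInstance, htr, fun x r hr hrx => eq_one_of_fix_all D fun y => ?_⟩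
  obtain ⟨s, hs, rfl⟩ := htr x y
  rw [← mul_smul, hc r hr s hs, mul_smul, hrx]

omit [Finite G] in
theorem exists_abelian_of_solvable (N : Subgroup G) [N.Normal] [Group.IsSolvable N] (h : N ≠ ⊥) :
    ∃ A : Subgroup G, A.Normal ∧ A ≠ ⊥ ∧ ∀ x ∈ A, ∀ y ∈ A, x * y = y * x := by
  classical
  let f : ℕ → Subgroup G := fun j => (derivedSeries N j).map N.subtype
  have hf : ∀ j, f (j + 1) = ⁅f j, f j⁆ := fun j => by
    simp only [f, derivedSeries_succ, Subgroup.map_commutator]
  have hn : ∀ j, (f j).Normal := fun j => by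
    induction j with
    | zero =>
      have : f 0 = N := by
        simp only [f, derivedSeries_zero, ← MonoidHom.range_eq_map, Subgroup.range_subtype]
      rw [this]; infer_instance
    | succ j ih => rw [hf]; exact Subgroup.commutator_normal _ _
  have hex : ∃ j, f j = ⊥ := by
    obtain ⟨j, hj⟩ := Group.IsSolvable.solvable (G := N)
    exact ⟨j, by simp only [f, hj, Subgroup.map_bot]⟩
  have h0 : Nat.find hex ≠ 0 := fun e => h (by
    have := Nat.find_spec hex
    rw [e] at this
    simpa only [f, derivedSeries_zero, ← MonoidHom.range_eq_map, Subgroup.range_subtype] using this)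
  refine ⟨f (Nat.find hex - 1), hn _, Nat.find_min hex (by omega), fun x hx y hy => ?_⟩
  have hb : ⁅f (Nat.find hex - 1), f (Nat.find hex - 1)⁆ = ⊥ := by
    rw [← hf, Nat.sub_add_cancel (Nat.pos_of_ne_zero h0)]
    exact Nat.find_spec hex
  exact (Subgroup.mem_centralizer_iff.1
    ((Subgroup.commutator_eq_bot_iff_le_centralizer.1 hb) hx) y hy).symm

/-- Without commuting involutions there is a regular normal subgroup. -/
theorem regular_of_no_pair (D : Data G Ω i t) (hno : ¬ HasPair G) : HasRegular G Ω := by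
  classical
  have heven : Even (Nat.card G) :=
    even_iff_two_dvd.2 (D.ord ▸ orderOf_dvd_natCard t)
  have hrank : ∀ E : Subgroup G, ¬ IsKleinFour E := fun E hE => hno <| by
    haveI := Fintype.ofFinite E
    haveI := hE
    have h4 : Nat.card E = 4 := IsKleinFour.card_four
    obtain ⟨u, hu⟩ : ∃ u : E, u ≠ 1 := Fintype.exists_ne_of_one_lt_card
      (by rw [← Nat.card_eq_fintype_card, h4]; norm_num) 1
    have h3 : ((({1, u} : Finset E))ᶜ).Nonempty := by
      rw [← Finset.card_pos, Finset.card_compl, Finset.card_pair (Ne.symm hu),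
        ← Nat.card_eq_fintype_card, h4]
      norm_num
    obtain ⟨v, hv⟩ := h3
    simp only [Finset.mem_compl, Finset.mem_insert, Finset.mem_singleton, not_or] at hv
    have hsq : ∀ x : E, (x : G) * x = 1 := fun x => by
      have : x * x = 1 := by
        rw [← pow_two, ← IsKleinFour.exponent_two (G := E)]
        exact Monoid.pow_exponent_eq_one x
      exact congrArg Subtype.val this
    refine ⟨u, v, hsq u, hsq v, fun e => hu (Subtype.ext e), fun e => hv.1 (Subtype.ext e),
      fun e => hv.2 (Subtype.ext e).symm, ?_⟩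
    have h := hsq (u * v)
    rw [Subgroup.coe_mul, ← eq_inv_iff_mul_eq_one, mul_inv_rev,
      inv_eq_of_mul_eq_one_right (hsq u), inv_eq_of_mul_eq_one_right (hsq v)] at h
    exact h
  obtain ⟨z, hz, N, hN, hNodd, hzN⟩ := Cfsg.Agent.S0225.result heven hrank
  haveI := hN
  by_cases hN1 : N = ⊥
  · have hzc : z ∈ Subgroup.center G := Subgroup.mem_center_iff.2 fun g => by
      have := hzN g
      rw [hN1, Subgroup.mem_bot, mul_inv_eq_one] at this
      calc g * z = (z * g * z⁻¹) * z := by rw [this]
        _ = z * g := by group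
    refine regular_of_abelian D (Subgroup.center G) (fun e => ?_)
      fun x hx y _ => (Subgroup.mem_center_iff.1 hx y).symm
    rw [e, Subgroup.mem_bot] at hzc
    rw [hzc, orderOf_one] at hz
    omega
  · haveI : Group.IsSolvable N := Cfsg.Agent.S0205.result hNodd
    obtain ⟨A, hA, hA1, hAc⟩ := exists_abelian_of_solvable N hN1
    haveI := hA
    exact regular_of_abelian D A hA1 hAc

end CfsgLib.ConstFixity
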